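import Cfsg.Agent.Lib.SmallOrders.OrbitSign
import Cfsg.Agent.Lib.SmallOrders.CandList
import Cfsg.Agent.Lib.SmallOrders.Check2
import Cfsg.Agent.Lib.SmallOrders.Count

/-!
# Centralizers of elements of prime order in simple groups of given order, and counting

* `Info G p c j`: elements of order `p` have centralizers of order `p c`, normalisers `p c j`
* `infoBool`, `exists_info`: the possible `(c, j)` read off from the order
* `false_of_three`: three primes whose singular elements are disjoint and too many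
-/

set_option autoImplicit false

namespace Cfsg.Agent.Order175560

open Subgroup SmallOrders

variable {G : Type*} [Group G] [Finite G]

/-- Elements of order `p` have centralisers of order `p c`, of index `j` in the normaliser. -/
structure Info (G : Type*) [Group G] (p c j : ℕ) : Prop where
  sylow : ∀ P : Sylow p G, Nat.card (P : Subgroup G) = p
  cent : ∀ y : G, orderOf y = p → Nat.card (centralizer ({y} : Set G)) = p * c
  count : Nat.card (Sylow p G) * (p * c * j) = Nat.card G

/-- `L` contains every possible `(c, j)` for groups of order `n`. -/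
def infoBool (n p : ℕ) (L : List (ℕ × ℕ)) : Bool :=
  primeBool p && decide (p ≠ 2) && decide (p ∣ n) && decide (¬ p ∣ n / p) &&
  (List.range (n / p / p + 1)).all (fun k =>
    decide (k = 0) || decide (¬ (k * p + 1) ∣ n / p) || badCand n p 1 (n / p) (k * p + 1) ||
      (List.range p).all (fun j =>
        decide (j < 2) || decide (¬ j ∣ p - 1) || decide (¬ p * j ∣ n / (k * p + 1)) ||
          (decide (k ≤ 30) && decide (¬ (n / (k * p + 1)) / (p * j) ∣ altCard k)) ||
          L.contains ((n / (k * p + 1)) / (p * j), j)))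

theorem exists_info [IsSimpleGroup G] (hG : ¬ IsMulCommutative G) {n : ℕ} (hn : Nat.card G = n) (p : ℕ)
    [Fact p.Prime] (L : List (ℕ × ℕ)) (h : infoBool n p L = true) :
    ∃ c j, Info G p c j ∧ (c, j) ∈ L := by
  simp only [infoBool, Bool.and_eq_true, decide_eq_true_eq, List.all_eq_true, List.mem_range,
    Bool.or_eq_true, List.contains_iff_mem] at h
  obtain ⟨⟨⟨⟨-, hp2⟩, hdvd⟩, hm⟩, hall⟩ := h
  have hp : p.Prime := Fact.out
  set m := n / p with hmdef
  have hfac : Nat.card G = p * m := by rw [hn, hmdef, Nat.mul_div_cancel' hdvd]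
  have hfac' : Nat.card G = p ^ 1 * m := by rw [pow_one]; exact hfac
  have hpG : p ∣ Nat.card G := hn.symm ▸ hdvd
  have hmpos : 0 < m := Nat.pos_of_ne_zero fun h0 => hm (h0 ▸ dvd_zero p)
  have hP : ∀ P : Sylow p G, Nat.card (P : Subgroup G) = p := fun P => by
    rw [card_sylow_subgroup hfac' hm P, pow_one]
  obtain ⟨P⟩ := (inferInstance : Nonempty (Sylow p G))
  have hdm : Nat.card (Sylow p G) ∣ m := index_sylow hfac' hm P ▸ P.card_dvd_index
  have hone := one_lt_card_sylow hG hpG
  have hmod : Nat.card (Sylow p G) ≡ 1 [MOD p] := card_sylow_modEq_one p G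
  unfold Nat.ModEq at hmod
  rw [Nat.one_mod_eq_one.mpr hp.ne_one] at hmod
  have hd := Nat.div_add_mod' (Nat.card (Sylow p G)) p
  rw [hmod] at hd
  set k := Nat.card (Sylow p G) / p with hk
  have hle : k < m / p + 1 := Nat.lt_succ_of_le (Nat.div_le_div_right (Nat.le_of_dvd hmpos hdm))
  obtain ⟨x, hxP⟩ := (Subgroup.isCyclic_iff_exists_zpowers_eq_top (P : Subgroup G)).mp
    (isCyclic_of_prime_card (hP P))
  have hx : orderOf x = p := by rw [← Nat.card_zpowers, hxP, hP]
  obtain ⟨j, hj1, hjp, hCj, hpC, -⟩ := exists_card_centralizer_mul hG hx P hxP.symm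
  obtain ⟨c, hc, hck⟩ := exists_card_centralizer_dvd hG hp2 hx hP hd.symm
  have hN : Nat.card G = p * c * j * Nat.card (Sylow p G) := by
    rw [← card_normalizer_mul_card_sylow P, ← hCj, hc]
  have hjlt : j < p := by
    have := Nat.le_of_dvd (by have := hp.two_le; omega) hjp
    have := hp.two_le
    omega
  have hdiv : n / (k * p + 1) = p * c * j := by
    rw [hd, ← hn, hN, Nat.mul_div_cancel _ (by omega)]
  have hcval : n / (k * p + 1) / (p * j) = c := by
    rw [hdiv, show p * c * j = p * j * c by ring,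
      Nat.mul_div_cancel_left _ (Nat.mul_pos hp.pos (by omega))]
  refine ⟨c, j, ⟨hP, ?_, ?_⟩, ?_⟩
  · intro y hy
    obtain ⟨Q, hQ⟩ := exists_sylow_eq_zpowers hP hy
    obtain ⟨g, rfl⟩ := MulAction.exists_smul_eq G P Q
    have hcx : centralizer ((P : Subgroup G) : Set G) = centralizer {x} := by
      rw [← hxP, centralizer_zpowers]
    have hcy : centralizer (((g • P : Sylow p G) : Subgroup G) : Set G) = centralizer {y} := by
      rw [hQ, centralizer_zpowers]
    rw [← hc, ← hcx, ← hcy]
    have e : centralizer (((g • P : Sylow p G) : Subgroup G) : Set G) =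
        (centralizer ((P : Subgroup G) : Set G)).map (MulAut.conj g).toMonoidHom := by
      ext a
      constructor
      · intro ha
        refine ⟨g⁻¹ * a * g, mem_centralizer_iff.2 fun b hb => ?_, by simp [mul_assoc]⟩
        have h1 := mem_centralizer_iff.1 ha (g * b * g⁻¹) ⟨b, hb, rfl⟩
        calc b * (g⁻¹ * a * g) = g⁻¹ * (g * b * g⁻¹ * a) * g := by group
          _ = _ := by rw [h1]; group
      · rintro ⟨a, ha, rfl⟩
        refine mem_centralizer_iff.2 ?_
        rintro _ ⟨b, hb, rfl⟩
        exact ((Commute.map (mem_centralizer_iff.1 ha b hb) (MulAut.conj g).toMonoidHom)).eq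
    rw [e, card_map_of_injective (MulAut.conj g).injective]
  · rw [hN]; ring
  · rcases hall k hle with ((h0 | h0) | h0) | h0
    · rw [h0] at hd; omega
    · rw [hd] at h0; exact absurd hdm h0
    · rw [hd, ← hn, badCand_false hG (by omega) hfac' hm] at h0
      exact absurd h0 Bool.false_ne_true
    · rcases h0 j hjlt with (((h1 | h1) | h1) | ⟨-, h1⟩) | h1
      · omega
      · exact absurd hjp h1
      · exact absurd ⟨c, by rw [hdiv]; ring⟩ h1
      · rw [hcval] at h1
        exact absurd (card_alternatingGroup_fin k ▸ hck) h1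
      · rwa [hcval] at h1

/-- The elements of order divisible by `p`. -/
def sing (G : Type*) [Group G] (p : ℕ) : Set G := {g | p ∣ orderOf g}

theorem exists_orderOf_eq {p : ℕ} [hp : Fact p.Prime] {g : G} (hg : p ∣ orderOf g) :
    ∃ y ∈ zpowers g, orderOf y = p :=
  ⟨g ^ (orderOf g / p), pow_mem (mem_zpowers g) _, by
    rw [orderOf_pow_of_dvd (Nat.div_ne_zero_iff.2 ⟨hp.out.ne_zero, Nat.le_of_dvd (orderOf_pos g) hg⟩)
      (Nat.div_dvd_of_dvd hg), Nat.div_div_self hg (orderOf_pos g).ne']⟩

theorem Info.sing_le {p c j : ℕ} [hp : Fact p.Prime] (I : Info G p c j) :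
    Nat.card (Sylow p G) * (p - 1) * c ≤ (sing G p).ncard := by
  classical
  let T : Sylow p G → Set G := fun Q => {g | g ∈ centralizer ((Q : Subgroup G) : Set G) ∧ p ∣ orderOf g}
  have hT : ∀ Q : Sylow p G, (p - 1) * c ≤ Nat.card (T Q) := by
    intro Q
    obtain ⟨y, hyQ⟩ := (Subgroup.isCyclic_iff_exists_zpowers_eq_top (Q : Subgroup G)).mp
      (isCyclic_of_prime_card (I.sylow Q))
    have hy : orderOf y = p := by rw [← Nat.card_zpowers, hyQ, I.sylow]
    have hCQ : centralizer ((Q : Subgroup G) : Set G) = centralizer {y} := by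
      rw [← hyQ, centralizer_zpowers]
    set C := centralizer ({y} : Set G) with hC
    have hQC : (Q : Subgroup G) ≤ C := hyQ ▸ zpowers_le_centralizer y
    have hidx : ((Q : Subgroup G).subgroupOf C).index = c := by
      have h1 := ((Q : Subgroup G).subgroupOf C).card_mul_index
      rw [Nat.card_congr (subgroupOfEquivOfLe hQC).toEquiv, I.sylow, I.cent y hy] at h1
      exact Nat.eq_of_mul_eq_mul_left hp.out.pos h1
    have hle : Nat.card {g : C // ¬ p ∣ orderOf (g : G)} ≤ c := by
      rw [← hidx, index_eq_card]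
      refine Nat.card_le_card_of_injective (fun g => (QuotientGroup.mk g.1 : C ⧸ (Q : Subgroup G).subgroupOf C)) ?_
      rintro ⟨a, ha⟩ ⟨b, hb⟩ hab
      have h1 : (a : G)⁻¹ * b ∈ (Q : Subgroup G) := mem_subgroupOf.1 (QuotientGroup.eq.1 hab)
      refine Subtype.ext (Subtype.ext ?_)
      set q := (a : G)⁻¹ * b with hq
      have hqa : Commute (a : G) q := by
        rw [← hyQ] at h1
        obtain ⟨i, hi⟩ := mem_zpowers_iff.1 h1
        rw [← hi]
        exact (show Commute (a : G) y from mem_centralizer_singleton_iff.1 a.2).zpow_right i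
      have hba : Commute (a : G) b := by
        have h2 : Commute (a : G) ((a : G) * q) := (Commute.refl (a : G)).mul_right hqa
        rwa [hq, mul_inv_cancel_left] at h2
      have h3 : q ^ (orderOf (a : G) * orderOf (b : G)) = 1 := by
        rw [hq, (hba.inv_left).mul_pow, inv_pow, pow_mul, pow_orderOf_eq_one, one_pow, inv_one,
          one_mul, mul_comm, pow_mul, pow_orderOf_eq_one, one_pow]
      have h4 : q ^ p = 1 := by
        rw [← I.sylow Q]
        exact congrArg Subtype.val (pow_card_eq_one' (x := (⟨q, h1⟩ : (Q : Subgroup G))))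
      have h5 : q = 1 := orderOf_eq_one_iff.1 (Nat.eq_one_of_dvd_coprimes
        (Nat.Coprime.mul_right (hp.out.coprime_iff_not_dvd.2 ha) (hp.out.coprime_iff_not_dvd.2 hb))
        (orderOf_dvd_of_pow_eq_one h4) (orderOf_dvd_of_pow_eq_one h3))
      exact inv_mul_eq_one.1 h5
    have hsum : Nat.card {g : C // p ∣ orderOf (g : G)} + Nat.card {g : C // ¬ p ∣ orderOf (g : G)} = p * c := by
      rw [← Nat.card_sum, Nat.card_congr (Equiv.sumCompl _), hC, I.cent y hy]
    have he : Nat.card {g : C // p ∣ orderOf (g : G)} = Nat.card (T Q) :=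
      Nat.card_congr
        { toFun := fun g => ⟨g.1.1, hCQ.ge g.1.2, g.2⟩
          invFun := fun g => ⟨⟨g.1, hCQ.le g.2.1⟩, g.2.2⟩
          left_inv := fun _ => rfl
          right_inv := fun _ => rfl }
    rw [← he, Nat.sub_mul, one_mul]
    omega
  have huniq : ∀ Q : Sylow p G, ∀ g, g ∈ T Q → ∀ y ∈ zpowers g, orderOf y = p → y ∈ (Q : Subgroup G) := by
    intro Q g hg y hy hyo
    have hyc : y ∈ centralizer ((Q : Subgroup G) : Set G) := zpowers_le.2 hg.1 hy
    have hp' : IsPGroup p ↥((Q : Subgroup G) ⊔ zpowers y) :=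
      Q.2.to_sup_of_normal_left' (IsPGroup.of_card (n := 1) (by rw [Nat.card_zpowers, hyo, pow_one]))
        (zpowers_le.2 (centralizer_le_normalizer _ hyc))
    rw [← Q.3 hp' le_sup_left]
    exact mem_sup_right (mem_zpowers y)
  have hinj : Function.Injective (fun s : Σ Q : Sylow p G, T Q => (⟨s.2.1, s.2.2.2⟩ : sing G p)) := by
    rintro ⟨Q, g, hg⟩ ⟨Q', g', hg'⟩ e
    obtain rfl : g = g' := congrArg Subtype.val e
    obtain ⟨y, hy, hyo⟩ := exists_orderOf_eq hg.2
    have key : ∀ R : Sylow p G, g ∈ T R → (R : Subgroup G) = zpowers y := fun R hR =>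
      (eq_of_le_of_card_ge (zpowers_le.2 (huniq R g hR y hy hyo))
        (by rw [I.sylow, Nat.card_zpowers, hyo])).symm
    obtain rfl : Q = Q' := Sylow.ext ((key Q hg).trans (key Q' hg').symm)
    rfl
  rw [← Nat.card_coe_set_eq]
  refine le_trans ?_ (Nat.card_le_card_of_injective _ hinj)
  haveI := Fintype.ofFinite (Sylow p G)
  rw [Nat.card_sigma, mul_assoc]
  calc Nat.card (Sylow p G) * ((p - 1) * c) = ∑ _Q : Sylow p G, (p - 1) * c := by
        rw [Finset.sum_const, Finset.card_univ, Nat.card_eq_fintype_card, smul_eq_mul]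
    _ ≤ _ := Finset.sum_le_sum fun Q _ => hT Q

theorem Info.card_mul_le {p c j : ℕ} [Fact p.Prime] (I : Info G p c j) :
    Nat.card G * (p - 1) ≤ (sing G p).ncard * (p * j) := by
  have h := Nat.mul_le_mul_right (p * j) I.sing_le
  calc Nat.card G * (p - 1) = Nat.card (Sylow p G) * (p * c * j) * (p - 1) := by rw [I.count]
    _ = Nat.card (Sylow p G) * (p - 1) * c * (p * j) := by ring
    _ ≤ _ := h

theorem dvd_card_centralizer {q : ℕ} [Fact q.Prime] {y g : G} (hy : y ∈ zpowers g) (hg : q ∣ orderOf g) :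
    q ∣ Nat.card (centralizer ({y} : Set G)) := by
  obtain ⟨i, hi⟩ := mem_zpowers_iff.1 hy
  refine hg.trans (orderOf_dvd_natCard _ (mem_centralizer_singleton_iff.2 ?_))
  rw [← hi]
  exact ((Commute.refl g).zpow_right i).eq

theorem Info.disjoint {p c j q : ℕ} [hp : Fact p.Prime] [hq : Fact q.Prime] (I : Info G p c j)
    (hqp : ¬ q ∣ p * c) : Disjoint (sing G p) (sing G q) := by
  rw [Set.disjoint_left]
  intro g hg hg'
  obtain ⟨y, hy, hyo⟩ := exists_orderOf_eq hg
  exact hqp (I.cent y hyo ▸ dvd_card_centralizer hy hg')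

/-- Divisibility of centralizer orders is symmetric. -/
theorem Info.symm_dvd {p c j q c' j' : ℕ} [hp : Fact p.Prime] [hq : Fact q.Prime] (I : Info G p c j)
    (I' : Info G q c' j') (h : q ∣ p * c) : p ∣ q * c' := by
  obtain ⟨P⟩ : Nonempty (Sylow p G) := inferInstance
  obtain ⟨x, hxP⟩ := (Subgroup.isCyclic_iff_exists_zpowers_eq_top (P : Subgroup G)).mp
    (isCyclic_of_prime_card (I.sylow P))
  have hx : orderOf x = p := by rw [← Nat.card_zpowers, hxP, I.sylow]
  obtain ⟨z, hz⟩ := exists_prime_orderOf_dvd_card' (G := centralizer ({x} : Set G)) q (I.cent x hx ▸ h)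
  have hzo : orderOf (z : G) = q := by rw [Subgroup.orderOf_coe, hz]
  rw [← I'.cent z hzo]
  refine hx ▸ orderOf_dvd_natCard _ (mem_centralizer_singleton_iff.2 ?_)
  exact (mem_centralizer_singleton_iff.1 z.2).symm

theorem false_of_three {p c j q c' j' r c'' j'' : ℕ} [Fact p.Prime] [Fact q.Prime] [Fact r.Prime]
    (I : Info G p c j) (I' : Info G q c' j') (I'' : Info G r c'' j'')
    (h1 : ¬ q ∣ p * c) (h2 : ¬ r ∣ p * c) (h3 : ¬ r ∣ q * c')
    (hbig : ∀ a b d : ℕ, Nat.card G * (p - 1) ≤ a * (p * j) → Nat.card G * (q - 1) ≤ b * (q * j') →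
      Nat.card G * (r - 1) ≤ d * (r * j'') → Nat.card G < a + b + d) : False := by
  have hu : (sing G p ∪ sing G q ∪ sing G r).ncard =
      (sing G p).ncard + (sing G q).ncard + (sing G r).ncard := by
    rw [Set.ncard_union_eq (Set.disjoint_union_left.2 ⟨I.disjoint h2, I'.disjoint h3⟩),
      Set.ncard_union_eq (I.disjoint h1)]
  have h4 : (sing G p ∪ sing G q ∪ sing G r).ncard ≤ Nat.card G := by
    rw [← Set.ncard_univ]; exact Set.ncard_le_ncard (Set.subset_univ _)
  have := hbig _ _ _ I.card_mul_le I'.card_mul_le I''.card_mul_le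
  omega

end Cfsg.Agent.Order175560
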