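import Cfsg.Agent.Lib.Order175560.Count
import Mathlib.GroupTheory.Perm.Cycle.Type

/-!
# No simple group of order `15960`

An involution commuting with an element of order `19` has centralizer of order not divisible
by `8`; such an involution acts as an odd permutation on the cosets of a cyclic subgroup of order `4`.
-/

set_option autoImplicit false

namespace Cfsg.Agent.Order175560

open Subgroup SmallOrders

variable {G : Type*} [Group G] [Finite G]

/-- An involution with centralizer order not divisible by `8` in a group of order `8 · odd`. -/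
theorem false_of_involution [IsSimpleGroup G] {m : ℕ} (hm : Odd m)
    (hn : Nat.card G = 8 * m) {t : G} (ht : orderOf t = 2)
    (h8 : ¬ 8 ∣ Nat.card (centralizer ({t} : Set G))) : False := by
  haveI := Fact.mk Nat.prime_two
  obtain ⟨T, hT⟩ := (IsPGroup.of_card (n := 1) (by rw [Nat.card_zpowers, ht, pow_one]) :
    IsPGroup 2 (zpowers t)).exists_le_sylow
  have htT : t ∈ (T : Subgroup G) := hT (mem_zpowers t)
  have hTc : Nat.card (T : Subgroup G) = 2 ^ 3 :=
    card_sylow_subgroup (p := 2) (e := 3) (m := m) hn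
      (Nat.two_dvd_ne_zero.2 (Nat.odd_iff.1 hm)) T
  -- an element of order four
  obtain ⟨r, hrT, hr⟩ : ∃ r ∈ (T : Subgroup G), orderOf r = 4 := by
    by_contra! hno
    have hsq : ∀ a ∈ (T : Subgroup G), a * a = 1 := by
      intro a ha
      have hd : orderOf a ∣ 2 ^ 3 := by
        rw [← hTc, ← Subgroup.orderOf_mk a ha]; exact orderOf_dvd_natCard _
      obtain ⟨i, hi, hai⟩ := (Nat.dvd_prime_pow Nat.prime_two).1 hd
      rw [← sq]
      refine orderOf_dvd_iff_pow_eq_one.1 ?_
      interval_cases i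
      · simp [hai]
      · simp [hai]
      · exact absurd hai (hno a ha)
      · refine absurd ?_ (hno (a ^ 2) (pow_mem ha 2))
        rw [orderOf_pow_of_dvd two_ne_zero (hai ▸ dvd_pow_self 2 three_ne_zero), hai]; rfl
    refine h8 ((show (8 : ℕ) = 2 ^ 3 by rfl) ▸ hTc ▸ card_dvd_of_le fun a ha => ?_)
    refine mem_centralizer_singleton_iff.2 ?_
    have h1 := hsq a ha
    have h2 := hsq t htT
    have h3 := hsq _ (mul_mem ha htT)
    calc a * t = a * (a * t * (a * t)) * t := by rw [h3, mul_one]
      _ = (a * a) * (t * a) * (t * t) := by group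
      _ = _ := by rw [h1, h2, one_mul, mul_one]
  have hr2 : orderOf (r ^ 2) = 2 := by
    rw [orderOf_pow_of_dvd two_ne_zero (by rw [hr]; norm_num), hr]
  set M := zpowers r with hM
  have hMc : Nat.card M = 4 := by rw [Nat.card_zpowers, hr]
  have huniq : ∀ a ∈ M, orderOf a = 2 → a = r ^ 2 := by
    intro a ha hao
    obtain ⟨i, hi⟩ := mem_zpowers_iff.1 ha
    rw [← hi, ← zpow_mod_orderOf r i, hr] at hao ⊢
    have h1 := Int.emod_nonneg i (show ((4 : ℕ) : ℤ) ≠ 0 by norm_num)
    have h2 := Int.emod_lt_of_pos i (show (0 : ℤ) < ((4 : ℕ) : ℤ) by norm_num)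
    generalize i % ((4 : ℕ) : ℤ) = l at h1 h2 hao
    obtain ⟨l, rfl⟩ := Int.eq_ofNat_of_zero_le h1
    rw [zpow_natCast] at hao ⊢
    have hl : l < 4 := by omega
    interval_cases l
    · simp at hao
    · rw [pow_one, hr] at hao; omega
    · rfl
    · rw [(show Nat.Coprime (orderOf r) 3 by rw [hr]; decide).orderOf_pow, hr] at hao; omega
  -- `r ^ 2` is central in `T`
  have hMT : M ≤ (T : Subgroup G) := zpowers_le.2 hrT
  have hcentral : (T : Subgroup G) ≤ centralizer ({r ^ 2} : Set G) := by
    haveI hMn : (M.subgroupOf (T : Subgroup G)).Normal := by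
      refine Subgroup.normal_of_index_eq_two ?_
      have h1 := (M.subgroupOf (T : Subgroup G)).card_mul_index
      rw [Nat.card_congr (subgroupOfEquivOfLe hMT).toEquiv, hMc, hTc] at h1
      omega
    intro g hg
    refine mem_centralizer_singleton_iff.2 (mul_inv_eq_iff_eq_mul.1 (huniq _ ?_ ?_))
    · exact mem_subgroupOf.1 (hMn.conj_mem ⟨r ^ 2, pow_mem hrT 2⟩
        (mem_subgroupOf.2 (pow_mem (mem_zpowers r) 2)) ⟨g, hg⟩)
    · rw [show g * r ^ 2 * g⁻¹ = MulAut.conj g (r ^ 2) from rfl, MulEquiv.orderOf_eq, hr2]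
  -- the permutation on the cosets of `M`
  classical
  haveI := Fintype.ofFinite (G ⧸ M)
  set σ := MulAction.toPermHom G (G ⧸ M) t with hσ
  have hfix : Function.fixedPoints σ = ∅ := by
    refine Set.eq_empty_iff_forall_notMem.2 fun q hq => ?_
    induction q using QuotientGroup.induction_on with | H g => ?_
    have h1 : ((t * g : G) : G ⧸ M) = (g : G ⧸ M) := hq
    have h2 : g⁻¹ * t * g ∈ M := by
      have := QuotientGroup.eq.1 h1.symm
      rwa [← mul_assoc] at this
    have h3 : g⁻¹ * t * g = r ^ 2 := huniq _ h2 (by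
      rw [show g⁻¹ * t * g = MulAut.conj g⁻¹ t by simp, MulEquiv.orderOf_eq, ht])
    refine h8 ?_
    have h4 : (T : Subgroup G).map (MulAut.conj g).toMonoidHom ≤ centralizer ({t} : Set G) := by
      rintro _ ⟨a, ha, rfl⟩
      refine mem_centralizer_singleton_iff.2 ?_
      have h5 := mem_centralizer_singleton_iff.1 (hcentral ha)
      rw [← h3] at h5
      show g * a * g⁻¹ * t = t * (g * a * g⁻¹)
      calc g * a * g⁻¹ * t = g * (a * (g⁻¹ * t * g)) * g⁻¹ := by group
        _ = _ := by rw [h5]; group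
    have := card_dvd_of_le h4
    rwa [card_map_of_injective (MulAut.conj g).injective, hTc] at this
  have hσ2 : σ ^ 2 = 1 := by rw [hσ, ← map_pow, ← ht, pow_orderOf_eq_one, map_one]
  have hcardQ : Fintype.card (G ⧸ M) = 2 * m := by
    rw [← Nat.card_eq_fintype_card, ← index_eq_card]
    have h1 := M.card_mul_index
    rw [hMc, hn] at h1
    omega
  have hsign : Equiv.Perm.sign σ = -1 := by
    rw [Equiv.Perm.sign_of_pow_two_eq_one hσ2, hcardQ,
      show Fintype.card (Function.fixedPoints σ) = 0 by simp [hfix],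
      Nat.sub_zero, Nat.mul_div_cancel_left _ two_pos, hm.neg_one_pow]
  let f : G →* ℤˣ := Equiv.Perm.sign.comp (MulAction.toPermHom G (G ⧸ M))
  rcases (MonoidHom.normal_ker f).eq_bot_or_eq_top with hk | hk
  · have h1 := Nat.card_le_card_of_injective f ((MonoidHom.ker_eq_bot_iff f).1 hk)
    rw [hn, Nat.card_eq_fintype_card, Fintype.card_units_int] at h1
    have := hm.pos
    omega
  · have h1 : f t = 1 := MonoidHom.mem_ker.1 (hk ▸ mem_top t)
    rw [show f t = Equiv.Perm.sign σ from rfl, hsign] at h1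
    exact absurd h1 (by decide)

theorem not_eight_dvd [IsSimpleGroup G] (hG : ¬ IsMulCommutative G) (hn : Nat.card G = 15960)
    [Fact (Nat.Prime 19)] [Fact (Nat.Prime 5)] (I : Info G 19 2 2) (I5 : ∀ y : G, orderOf y = 19 →
      ∀ z : G, orderOf z = 5 → ¬ Commute y z) {t y : G} (ht : orderOf t = 2) (hy : orderOf y = 19)
    (hty : Commute t y) : ¬ 8 ∣ Nat.card (centralizer ({t} : Set G)) := by
  intro h8
  set H := centralizer ({t} : Set G) with hH
  set C := centralizer ({y} : Set G) with hC
  have hyH : y ∈ H := mem_centralizer_singleton_iff.2 hty.eq.symm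
  have htH : t ∈ H := mem_centralizer_singleton_iff.2 rfl
  have hyt : orderOf (y * t) = 38 := by
    rw [hty.symm.orderOf_mul_eq_mul_orderOf_of_coprime (by rw [hy, ht]; decide), hy, ht]
  have hCH : C ≤ H := by
    have h1 : zpowers (y * t) = C := eq_of_le_of_card_ge
      (zpowers_le.2 (mem_centralizer_singleton_iff.2
        ((Commute.refl y).mul_left hty).eq))
      (by rw [Nat.card_zpowers, hyt, I.cent y hy])
    rw [← h1]
    exact zpowers_le.2 (mem_centralizer_singleton_iff.2 (hty.symm.mul_left (Commute.refl t)).eq)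
  obtain ⟨P, hP⟩ := exists_sylow_eq_zpowers I.sylow hy
  have hPH : (P : Subgroup G) ≤ H := hP ▸ zpowers_le.2 hyH
  set N := normalizer ((P : Subgroup G) : Set G) with hN
  have hNc : Nat.card N = 76 := by
    have h1 := card_normalizer_mul_card_sylow P
    have h2 := I.count
    rw [← h2, mul_comm (Nat.card (Sylow 19 G)), ← hN] at h1
    exact (Nat.eq_of_mul_eq_mul_right Nat.card_pos h1).trans (by norm_num)
  have hCN : C ≤ N := by
    rw [hC, ← centralizer_zpowers, ← hP]; exact centralizer_le_normalizer _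
  -- the order of `H`
  let P' : Sylow 19 H := P.subtype hPH
  have hNH : normalizer ((P' : Subgroup H) : Set H) = N.subgroupOf H := by
    rw [Sylow.coe_subtype]
    exact (Subgroup.subgroupOf_normalizer_eq hPH).symm
  have hNHc : Nat.card (normalizer ((P' : Subgroup H) : Set H)) = Nat.card ↥(N ⊓ H) := by
    rw [hNH, ← inf_subgroupOf_right, Nat.card_congr (subgroupOfEquivOfLe inf_le_right).toEquiv]
  have hcount := card_normalizer_mul_card_sylow P'
  rw [hNHc] at hcount
  have h38 : 38 ∣ Nat.card ↥(N ⊓ H) :=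
    (dvd_of_eq ((I.cent y hy).symm : 38 = Nat.card C)).trans (card_dvd_of_le (le_inf hCN hCH))
  have h76 : Nat.card ↥(N ⊓ H) ∣ 76 := hNc ▸ card_dvd_of_le inf_le_left
  have hd := card_subgroup_dvd_card H
  rw [hn] at hd
  have hne : H ≠ ⊤ := fun e => by
    have h1 : t ∈ center G := mem_center_iff.2 fun g => mem_centralizer_singleton_iff.1 (e.ge (mem_top g))
    rw [SmallOrders.center_eq_bot hG, mem_bot] at h1
    rw [h1, orderOf_one] at ht
    omega
  have h5 := five_le_index hG hne
  have hmul := H.card_mul_index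
  rw [hn] at hmul
  have hle : Nat.card H * 5 ≤ 15960 := hmul ▸ Nat.mul_le_mul_left _ h5
  have hmod : Nat.card (Sylow 19 H) % 19 = 1 := card_sylow_modEq_one 19 H
  obtain ⟨a, ha⟩ : (152 : ℕ) ∣ Nat.card H :=
    Nat.Coprime.mul_dvd_of_dvd_of_dvd (show Nat.Coprime 8 19 by decide) h8
      ((show (19 : ℕ) ∣ 38 by norm_num).trans (h38.trans (card_dvd_of_le inf_le_right)))
  have ha105 : a ∣ 105 := Nat.dvd_of_mul_dvd_mul_left (show 0 < 152 by norm_num) (by rw [← ha]; exact hd)
  have hNle : Nat.card ↥(N ⊓ H) ≤ 76 := Nat.le_of_dvd (by norm_num) h76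
  have hNval : Nat.card ↥(N ⊓ H) = 38 ∨ Nat.card ↥(N ⊓ H) = 76 := by
    obtain ⟨i, hi⟩ := h38
    have := Nat.card_pos (α := ↥(N ⊓ H))
    omega
  have hHc : Nat.card H = 760 ∧ Nat.card (Sylow 19 H) = 20 := by
    have hall : ∀ a < 22, a ∣ 105 → ∀ w : Bool,
        ((if w then 4 else 2) * a) % 19 = 1 → a = 5 ∧ w = true := by decide
    have halt : a < 22 := by omega
    rcases hNval with e | e <;> rw [e, ha] at hcount
    · have h4 : Nat.card (Sylow 19 H) = 4 * a := by omega
      have := hall a halt ha105 true (by simpa [← h4] using hmod)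
      omega
    · have h4 : Nat.card (Sylow 19 H) = 2 * a := by omega
      have := (hall a halt ha105 false (by simpa [← h4] using hmod)).2
      simp at this
  have hS19 : ∀ Q : Sylow 19 H, Nat.card (Q : Subgroup H) = 19 := fun Q => by
    rw [card_sylow_subgroup (e := 1) (m := 40) (by rw [hHc.1]; norm_num) (by norm_num) Q, pow_one]
  have hS5 : ∀ Q : Sylow 5 H, Nat.card (Q : Subgroup H) = 5 := fun Q => by
    rw [card_sylow_subgroup (e := 1) (m := 152) (by rw [hHc.1]; norm_num) (by norm_num) Q, pow_one]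
  obtain ⟨Q⟩ : Nonempty (Sylow 5 H) := inferInstance
  have hd5 : Nat.card (Sylow 5 H) ∣ 152 :=
    index_sylow (e := 1) (m := 152) (by rw [hHc.1]; norm_num) (by norm_num) Q ▸ Q.card_dvd_index
  have hmod5 : Nat.card (Sylow 5 H) % 5 = 1 := card_sylow_modEq_one 5 H
  have hn5 : Nat.card (Sylow 5 H) = 1 ∨ Nat.card (Sylow 5 H) = 76 := by
    have hall : ∀ a < 153, a ∣ 152 → a % 5 = 1 → a = 1 ∨ a = 76 := by decide +kernel
    exact hall _ (Nat.lt_succ_of_le (Nat.le_of_dvd (by norm_num) hd5)) hd5 hmod5
  rcases hn5 with h1 | h76'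
  · -- `y` centralises the Sylow `5`-subgroup
    haveI : Subsingleton (Sylow 5 H) := Finite.card_le_one_iff_subsingleton.mp h1.le
    haveI := Sylow.normal_of_subsingleton Q
    let θ : H →* MulAut (Q : Subgroup H) := MulAut.conjNormal
    have hθ : θ ⟨y, hyH⟩ = 1 := by
      refine orderOf_eq_one_iff.1 (Nat.eq_one_of_dvd_coprimes (show Nat.Coprime 19 4 by decide) ?_ ?_)
      · exact (orderOf_map_dvd θ _).trans (by rw [Subgroup.orderOf_mk, hy])
      · haveI := isCyclic_of_prime_card (hS5 Q)
        exact (_root_.orderOf_dvd_natCard _).trans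
          (by rw [IsCyclic.card_mulAut, hS5, Nat.totient_prime (Fact.out : Nat.Prime 5)])
    obtain ⟨z, hz⟩ := exists_prime_orderOf_dvd_card' (G := (Q : Subgroup H)) 5 (by rw [hS5])
    refine I5 y hy ((z : H) : G) (by rw [Subgroup.orderOf_coe, Subgroup.orderOf_coe, hz]) ?_
    have h2 := congrArg Subtype.val (MulEquiv.congr_fun hθ z)
    rw [MulAut.conjNormal_apply] at h2
    exact congrArg Subtype.val (mul_inv_eq_iff_eq_mul.1 h2)
  · -- too many elements
    have hc19 := card_orderOf_eq_prime hS19
    have hc5 := card_orderOf_eq_prime hS5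
    rw [hHc.2] at hc19
    rw [h76'] at hc5
    have hinj : Nat.card {g : H // orderOf g = 19} ≤ Nat.card {g : H // orderOf g = 38} := by
      refine Nat.card_le_card_of_injective (fun g => ⟨g.1 * ⟨t, htH⟩, ?_⟩) fun a b e => ?_
      · have hc : Commute g.1 (⟨t, htH⟩ : H) := Subtype.ext (mem_centralizer_singleton_iff.1 g.1.2)
        rw [hc.orderOf_mul_eq_mul_orderOf_of_coprime (by rw [g.2, Subgroup.orderOf_mk, ht]; decide), g.2,
          Subgroup.orderOf_mk, ht]
      · exact Subtype.ext (mul_right_cancel (congrArg Subtype.val e))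
    classical
    haveI := Fintype.ofFinite H
    have htot : ∀ a b d : ℕ, a ≠ b → a ≠ d → b ≠ d → Nat.card {g : H // orderOf g = a} +
        Nat.card {g : H // orderOf g = b} + Nat.card {g : H // orderOf g = d} ≤ Nat.card H := by
      intro a b d hab had hbd
      simp only [Nat.card_eq_fintype_card, Fintype.card_subtype]
      rw [← Finset.card_union_of_disjoint, ← Finset.card_union_of_disjoint]
      · exact Finset.card_le_univ _
      · rw [Finset.disjoint_union_left]
        constructor <;> refine Finset.disjoint_filter.2 fun g _ h1 h2 => ?_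
        · exact had (h1 ▸ h2)
        · exact hbd (h1 ▸ h2)
      · exact Finset.disjoint_filter.2 fun g _ h1 h2 => hab (h1 ▸ h2)
    have := htot 5 19 38 (by decide) (by decide) (by decide)
    rw [hc5, hc19, hHc.1] at this
    omega

theorem card_ne_15960 [IsSimpleGroup G] (hG : ¬ IsMulCommutative G) : Nat.card G ≠ 15960 := by
  intro hn
  haveI := Fact.mk (show Nat.Prime 19 by norm_num)
  haveI := Fact.mk (show Nat.Prime 5 by norm_num)
  haveI := Fact.mk Nat.prime_two
  obtain ⟨c, j, I, hL⟩ := exists_info hG hn 19 [(2, 2)] (by decide +kernel)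
  simp only [List.mem_singleton, Prod.mk.injEq] at hL
  obtain ⟨rfl, rfl⟩ := hL
  obtain ⟨y, hy⟩ := exists_prime_orderOf_dvd_card' (G := G) 19 (by rw [hn]; norm_num)
  obtain ⟨t, ht⟩ := exists_prime_orderOf_dvd_card' (G := centralizer ({y} : Set G)) 2
    (by rw [I.cent y hy]; norm_num)
  have hto : orderOf (t : G) = 2 := by rw [Subgroup.orderOf_coe, ht]
  refine false_of_involution (m := 1995) (by decide) (by rw [hn]) hto (not_eight_dvd hG hn I ?_ hto hy
    (mem_centralizer_singleton_iff.1 t.2))
  intro y hy z hz hc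
  have h1 : orderOf z ∣ Nat.card (centralizer ({y} : Set G)) :=
    orderOf_dvd_natCard _ (mem_centralizer_singleton_iff.2 hc.eq.symm)
  rw [I.cent y hy, hz] at h1
  omega

end Cfsg.Agent.Order175560
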