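import Cfsg.Agent.Lib.Order175560.Order15960
import Cfsg.Agent.Lib.SmallOrders.Range

/-!
# No simple group whose order is a proper divisor of `175560` divisible by `19`, other than `19`
-/

set_option autoImplicit false

namespace Cfsg.Agent.Order175560

open Subgroup SmallOrders

/-- `(n, p, e)`: the prime `p` shows that no simple group has order `n`. -/
def witnesses : List (ℕ × ℕ × ℕ) :=
  [(38, 19, 1), (57, 19, 1), (76, 19, 1), (95, 19, 1), (114, 19, 1), (133, 19, 1), (152, 19, 1), (190, 19, 1), (209, 19, 1), (228, 19, 1), (266, 19, 1), (285, 19, 1), (380, 19, 1), (399, 19, 1), (418, 19, 1), (456, 19, 1), (532, 19, 1), (570, 19, 1), (627, 19, 1), (665, 19, 1), (760, 19, 1), (798, 19, 1), (836, 19, 1), (1045, 19, 1), (1064, 19, 1), (1140, 5, 1), (1254, 19, 1), (1330, 19, 1), (1463, 19, 1), (1596, 19, 1), (1672, 19, 1), (1995, 19, 1), (2090, 19, 1), (2280, 19, 1), (2508, 19, 1), (2660, 19, 1), (2926, 7, 1), (3135, 19, 1), (3192, 19, 1),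 (3990, 19, 1), (4180, 19, 1), (4389, 11, 1), (5016, 19, 1), (5320, 19, 1), (5852, 2, 2), (6270, 19, 1), (7315, 19, 1), (8360, 19, 1), (8778, 2, 1), (12540, 19, 1), (14630, 7, 1), (21945, 7, 1), (25080, 19, 1), (29260, 2, 2), (43890, 2, 1), (11704, 7, 1)]

/-- The orders needing a count. -/
def hardOrders : List ℕ := [7980, 15960, 17556, 35112, 58520, 87780]

theorem witnesses_ok :
    witnesses.all (fun w => critBool w.1 w.2.1 w.2.2 || critBool2 w.1 w.2.1 w.2.2) = true := by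
  decide +kernel

theorem divisors_covered_aux : ∀ a < 93, ∀ b < 100, a * 100 + b ∣ 9240 → a * 100 + b = 1 ∨
    a * 100 + b = 9240 ∨ (witnesses.any (fun w => w.1 == 19 * (a * 100 + b)) ||
      hardOrders.contains (19 * (a * 100 + b))) = true := by
  decide +kernel

theorem divisors_covered (d : ℕ) (h : d < 9241) (hd : d ∣ 9240) : d = 1 ∨ d = 9240 ∨
    (witnesses.any (fun w => w.1 == 19 * d) || hardOrders.contains (19 * d)) = true := by
  have := divisors_covered_aux (d / 100) (by omega) (d % 100) (by omega)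
  rw [Nat.div_add_mod'] at this
  exact this hd

variable {G : Type*} [Group G] [Finite G] [IsSimpleGroup G]

theorem card_ne_7980 (hG : ¬ IsMulCommutative G) : Nat.card G ≠ 7980 := by
  intro hn
  haveI := Fact.mk (show Nat.Prime 19 by norm_num)
  haveI := Fact.mk (show Nat.Prime 5 by norm_num)
  haveI := Fact.mk (show Nat.Prime 7 by norm_num)
  obtain ⟨c, j, I, hL⟩ := exists_info hG hn 19 [(1, 2)] (by decide +kernel)
  obtain ⟨c', j', I', hL'⟩ := exists_info hG hn 5 [(3, 2)] (by decide +kernel)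
  obtain ⟨c'', j'', I'', hL''⟩ := exists_info hG hn 7 [(1, 6), (2, 3), (3, 2), (10, 2)] (by decide +kernel)
  simp only [List.mem_cons, List.not_mem_nil, or_false, Prod.mk.injEq] at hL hL' hL''
  obtain ⟨rfl, rfl⟩ := hL
  obtain ⟨rfl, rfl⟩ := hL'
  refine false_of_three I I' I'' (by norm_num) (by norm_num) (by norm_num) fun a b d ha hb hd => ?_
  rw [hn] at ha hb hd ⊢
  rcases hL'' with ⟨rfl, rfl⟩ | ⟨rfl, rfl⟩ | ⟨rfl, rfl⟩ | ⟨rfl, rfl⟩ <;> omega

theorem card_ne_17556 (hG : ¬ IsMulCommutative G) : Nat.card G ≠ 17556 := by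
  intro hn
  haveI := Fact.mk (show Nat.Prime 19 by norm_num)
  haveI := Fact.mk (show Nat.Prime 11 by norm_num)
  haveI := Fact.mk (show Nat.Prime 7 by norm_num)
  obtain ⟨c, j, I, hL⟩ := exists_info hG hn 7 [(1, 2)] (by decide +kernel)
  obtain ⟨c', j', I', hL'⟩ := exists_info hG hn 11 [(6, 2)] (by decide +kernel)
  obtain ⟨c'', j'', I'', hL''⟩ := exists_info hG hn 19 [(2, 6), (4, 3), (6, 2)] (by decide +kernel)
  simp only [List.mem_cons, List.not_mem_nil, or_false, Prod.mk.injEq] at hL hL' hL''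
  obtain ⟨rfl, rfl⟩ := hL
  obtain ⟨rfl, rfl⟩ := hL'
  refine false_of_three I I' I'' (by norm_num) (by norm_num) (by norm_num) fun a b d ha hb hd => ?_
  rw [hn] at ha hb hd ⊢
  rcases hL'' with ⟨rfl, rfl⟩ | ⟨rfl, rfl⟩ | ⟨rfl, rfl⟩ <;> omega

theorem card_ne_35112 (hG : ¬ IsMulCommutative G) : Nat.card G ≠ 35112 := by
  intro hn
  haveI := Fact.mk (show Nat.Prime 19 by norm_num)
  haveI := Fact.mk (show Nat.Prime 11 by norm_num)
  haveI := Fact.mk (show Nat.Prime 7 by norm_num)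
  obtain ⟨c, j, I, hL⟩ := exists_info hG hn 7 [(2, 2)] (by decide +kernel)
  obtain ⟨c', j', I', hL'⟩ := exists_info hG hn 11 [(1, 2), (12, 2)] (by decide +kernel)
  obtain ⟨c'', j'', I'', hL''⟩ := exists_info hG hn 19 [(4, 6), (12, 2)] (by decide +kernel)
  simp only [List.mem_cons, List.not_mem_nil, or_false, Prod.mk.injEq] at hL hL' hL''
  obtain ⟨rfl, rfl⟩ := hL
  refine false_of_three I I' I'' (by norm_num) (by norm_num)
    (by rcases hL' with ⟨rfl, rfl⟩ | ⟨rfl, rfl⟩ <;> norm_num) fun a b d ha hb hd => ?_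
  rw [hn] at ha hb hd ⊢
  rcases hL' with ⟨rfl, rfl⟩ | ⟨rfl, rfl⟩ <;> rcases hL'' with ⟨rfl, rfl⟩ | ⟨rfl, rfl⟩ <;> omega

theorem card_ne_58520 (hG : ¬ IsMulCommutative G) : Nat.card G ≠ 58520 := by
  intro hn
  haveI := Fact.mk (show Nat.Prime 19 by norm_num)
  haveI := Fact.mk (show Nat.Prime 11 by norm_num)
  haveI := Fact.mk (show Nat.Prime 7 by norm_num)
  haveI := Fact.mk (show Nat.Prime 5 by norm_num)
  obtain ⟨c, j, I, hL⟩ := exists_info hG hn 19 [(1, 2)] (by decide +kernel)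
  obtain ⟨c7, j7, I7, hL7⟩ := exists_info hG hn 7 [(1, 2), (22, 2)] (by decide +kernel)
  obtain ⟨c11, j11, I11, hL11⟩ := exists_info hG hn 11 [(4, 10), (8, 5), (20, 2)] (by decide +kernel)
  obtain ⟨c5, j5, I5, hL5⟩ := exists_info hG hn 5 [(1, 4), (2, 2), (7, 2), (11, 4), (22, 2), (77, 2)]
    (by decide +kernel)
  simp only [List.mem_cons, List.not_mem_nil, or_false, Prod.mk.injEq] at hL hL7 hL11 hL5
  obtain ⟨rfl, rfl⟩ := hL
  have h7 : c7 = 1 ∧ j7 = 2 := by
    refine hL7.resolve_right fun h => ?_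
    obtain ⟨rfl, rfl⟩ := h
    have := I7.symm_dvd I11 (by norm_num)
    omega
  obtain ⟨rfl, rfl⟩ := h7
  refine false_of_three I I7 I5 (by norm_num) (by norm_num) (by norm_num) fun a b d ha hb hd => ?_
  rw [hn] at ha hb hd ⊢
  rcases hL5 with ⟨rfl, rfl⟩ | ⟨rfl, rfl⟩ | ⟨rfl, rfl⟩ | ⟨rfl, rfl⟩ | ⟨rfl, rfl⟩ | ⟨rfl, rfl⟩ <;> omega

theorem card_ne_87780 (hG : ¬ IsMulCommutative G) : Nat.card G ≠ 87780 := by
  intro hn
  haveI := Fact.mk (show Nat.Prime 19 by norm_num)
  haveI := Fact.mk (show Nat.Prime 11 by norm_num)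
  haveI := Fact.mk (show Nat.Prime 7 by norm_num)
  haveI := Fact.mk (show Nat.Prime 5 by norm_num)
  obtain ⟨c, j, I, hL⟩ := exists_info hG hn 19 [(1, 3), (11, 2)] (by decide +kernel)
  obtain ⟨c5, j5, I5, hL5⟩ := exists_info hG hn 5 [(3, 2), (19, 4), (33, 2), (38, 2)] (by decide +kernel)
  obtain ⟨c7, j7, I7, hL7⟩ := exists_info hG hn 7 [(1, 3), (5, 2), (11, 6), (19, 2), (22, 3), (33, 2)]
    (by decide +kernel)
  obtain ⟨c11, j11, I11, hL11⟩ := exists_info hG hn 11 [(1, 5), (6, 10), (12, 5), (19, 2), (30, 2)]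
    (by decide +kernel)
  simp only [List.mem_cons, List.not_mem_nil, or_false, Prod.mk.injEq] at hL hL5 hL7 hL11
  have hd5 : ¬ 19 ∣ 5 * c5 := fun h => by
    have := I5.symm_dvd I h
    omega
  have hd7 : ¬ 19 ∣ 7 * c7 := fun h => by
    have := I7.symm_dvd I h
    omega
  have hd75 : ¬ 5 ∣ 7 * c7 := fun h => by
    have := I7.symm_dvd I5 h
    omega
  have hd711 : ¬ 11 ∣ 7 * c7 := fun h => by
    have := I7.symm_dvd I11 h
    omega
  refine false_of_three I I5 I7 (by omega) (by omega) (by omega) fun a b d ha hb hd => ?_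
  rw [hn] at ha hb hd ⊢
  obtain ⟨rfl, rfl⟩ : c7 = 1 ∧ j7 = 3 := by omega
  obtain rfl : j5 = 2 := by omega
  rcases hL with ⟨rfl, rfl⟩ | ⟨rfl, rfl⟩ <;> omega

theorem card_ne (hG : ¬ IsMulCommutative G) {d : ℕ} (hd : d ∣ 9240) (h1 : d ≠ 1) (h2 : d ≠ 9240) :
    Nat.card G ≠ 19 * d := by
  intro hn
  rcases (divisors_covered d (Nat.lt_succ_of_le (Nat.le_of_dvd (by norm_num) hd)) hd) with h | h | h
  · exact h1 h
  · exact h2 h
  simp only [Bool.or_eq_true, List.any_eq_true, beq_iff_eq, List.contains_iff_mem] at h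
  rcases h with ⟨w, hw, he⟩ | h
  · have := List.all_eq_true.1 witnesses_ok w hw
    rw [Bool.or_eq_true] at this
    rcases this with h' | h'
    · exact card_ne_of_critBool hG _ _ h' (hn.trans he.symm)
    · exact card_ne_of_critBool2 hG _ _ h' (hn.trans he.symm)
  · simp only [hardOrders, List.mem_cons, List.not_mem_nil, or_false] at h
    rcases h with h | h | h | h | h | h
    · exact card_ne_7980 hG (hn.trans h)
    · exact card_ne_15960 hG (hn.trans h)
    · exact card_ne_17556 hG (hn.trans h)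
    · exact card_ne_35112 hG (hn.trans h)
    · exact card_ne_58520 hG (hn.trans h)
    · exact card_ne_87780 hG (hn.trans h)

end Cfsg.Agent.Order175560
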